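import Groth.Agent.Comod.Reynolds
import Groth.Prelude.Def_W4c1tameactTame
import Groth.Agent.FinAdic.Basic
import Mathlib.RingTheory.Filtration
import Mathlib.RingTheory.HopkinsLevitzki

/-!
# Invariants of an equivariant module and the adic topology at a stable maximal ideal
-/

set_option autoImplicit false
set_option linter.unusedSectionVars false

universe u v w w'
open TensorProduct Groth.Agent.Comod
noncomputable section

namespace Groth.Agent.LunaAdic

section Lim

variable {R : Type u} [CommRing R] [IsNoetherianRing R] [IsLocalRing R]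
  [IsAdicComplete (IsLocalRing.maximalIdeal R) R]
variable {N : Type v} [AddCommGroup N] [Module R N] [Module.Finite R N]

local notation "𝔪" => IsLocalRing.maximalIdeal R

lemma exists_stable (S : ℕ → Submodule R N) (hS : Antitone S) (j : ℕ) :
    ∃ m, ∀ n, m ≤ n → S n ⊔ (𝔪 ^ j • ⊤ : Submodule R N) = S m ⊔ (𝔪 ^ j • ⊤ : Submodule R N) := by
  let I := 𝔪 ^ j
  haveI : Ring.KrullDimLE 0 (R ⧸ I) := Ring.krullDimLE_zero_iff.2 fun P hP => by
    haveI := hP
    have h1 : 𝔪 ≤ P.comap (Ideal.Quotient.mk I) := by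
      refine Ideal.IsPrime.le_of_pow_le (n := j) ?_
      intro x hx
      rw [Ideal.mem_comap, Ideal.Quotient.eq_zero_iff_mem.2 hx]
      exact P.zero_mem
    have h2 := (IsLocalRing.maximalIdeal.isMaximal R).eq_of_le (Ideal.IsPrime.ne_top inferInstance) h1
    haveI : (P.comap (Ideal.Quotient.mk I)).IsMaximal := h2 ▸ IsLocalRing.maximalIdeal.isMaximal R
    rw [← Ideal.map_comap_of_surjective _ Ideal.Quotient.mk_surjective P]
    exact (Ideal.map_eq_top_or_isMaximal_of_surjective _ Ideal.Quotient.mk_surjective inferInstance).resolve_left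
      (by rw [Ideal.map_comap_of_surjective _ Ideal.Quotient.mk_surjective P]; exact hP.ne_top)
  haveI : IsArtinianRing (R ⧸ I) := IsNoetherianRing.isArtinianRing_of_krullDimLE_zero
  haveI : IsArtinian (R ⧸ I) (N ⧸ (I • ⊤ : Submodule R N)) := by
    haveI : Module.Finite (R ⧸ I) (N ⧸ (I • ⊤ : Submodule R N)) := Module.Finite.of_restrictScalars_finite R _ _
    infer_instance
  haveI : IsArtinian R (N ⧸ (I • ⊤ : Submodule R N)) :=
    isArtinian_of_surjective_algebraMap (R := R ⧸ I) Ideal.Quotient.mk_surjective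
  obtain ⟨m, hm⟩ := IsArtinian.monotone_stabilizes (R := R) (M := N ⧸ (I • ⊤ : Submodule R N))
    ⟨fun n => OrderDual.toDual ((S n).map (Submodule.mkQ _)), fun a b hab => Submodule.map_mono (hS hab)⟩
  refine ⟨m, fun n hn => ?_⟩
  let q := Submodule.mkQ (I • ⊤ : Submodule R N)
  have e : (S m).map q = (S n).map q := hm n hn
  have h' : ((S m).map q).comap q = ((S n).map q).comap q := by rw [e]
  simp only [q, Submodule.comap_map_mkQ] at h'
  rw [sup_comm (S n), sup_comm (S m)]
  exact h'.symm

/-- A sequence Cauchy for a filtration finer than some powers of the maximal ideal has a limit. -/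
theorem exists_limit (S : ℕ → Submodule R N) (hS : Antitone S)
    (hle : ∀ n, (𝔪 ^ n • ⊤ : Submodule R N) ≤ S n) (x : ℕ → N) (hx : ∀ n, x (n + 1) - x n ∈ S n) :
    ∃ y, ∀ n, y - x n ∈ S n := by
  haveI := FinAdic.isAdicComplete_of_finite 𝔪 N
  have hx' : ∀ n m, n ≤ m → x m - x n ∈ S n := fun n m h => by
    induction m, h using Nat.le_induction with
    | base => simp
    | succ m hm ih =>
      have := add_mem (hS hm (hx m)) ih
      rwa [sub_add_sub_cancel] at this
  choose φ hφ using exists_stable S hS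
  let P : ℕ → N → Prop := fun j w => ∀ n, w - x n ∈ S n ⊔ (𝔪 ^ j • ⊤ : Submodule R N)
  have hP : ∀ j, P j (x (φ j)) := fun j n => by
    rcases le_total n (φ j) with h | h
    · exact Submodule.mem_sup_left (hx' n _ h)
    · have h1 : x n - x (φ j) ∈ S n ⊔ (𝔪 ^ j • ⊤ : Submodule R N) := by
        rw [hφ j n h]
        exact Submodule.mem_sup_left (hx' _ n h)
      simpa using neg_mem h1
  have hstep : ∀ j w, P j w → ∃ w', P (j + 1) w' ∧ w' - w ∈ (𝔪 ^ j • ⊤ : Submodule R N) := fun j w hw => by
    have h1 : x (φ (j + 1)) - w ∈ S (φ (j + 1)) ⊔ (𝔪 ^ j • ⊤ : Submodule R N) := by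
      simpa using neg_mem (hw (φ (j + 1)))
    obtain ⟨a, ha, b, hb, hab⟩ := Submodule.mem_sup.1 h1
    refine ⟨x (φ (j + 1)) - a, fun n => ?_, ?_⟩
    · have h2 : a ∈ S n ⊔ (𝔪 ^ (j + 1) • ⊤ : Submodule R N) := by
        rcases le_total n (φ (j + 1)) with h | h
        · exact Submodule.mem_sup_left (hS h ha)
        · rw [hφ (j + 1) n h]
          exact Submodule.mem_sup_left ha
      rw [sub_right_comm]
      exact sub_mem (hP (j + 1) n) h2
    · rwa [sub_right_comm, ← hab, add_sub_cancel_left]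
  let f : ∀ j, {w // P j w} := fun j => Nat.rec ⟨x (φ 0), hP 0⟩
    (fun j w => ⟨(hstep j w.1 w.2).choose, (hstep j w.1 w.2).choose_spec.1⟩) j
  have hf : ∀ j, (f (j + 1)).1 - (f j).1 ∈ (𝔪 ^ j • ⊤ : Submodule R N) := fun j =>
    (hstep j (f j).1 (f j).2).choose_spec.2
  have hf' : ∀ a b, a ≤ b → (f a).1 ≡ (f b).1 [SMOD (𝔪 ^ a • ⊤ : Submodule R N)] := fun a b h => by
    induction b, h using Nat.le_induction with
    | base => exact SModEq.refl _
    | succ b hab ih =>
      refine ih.trans (SModEq.sub_mem.2 ?_)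
      rw [← neg_sub]
      exact neg_mem (Submodule.smul_mono_left (Ideal.pow_le_pow_right hab) (hf b))
  obtain ⟨y, hy⟩ := IsPrecomplete.prec (I := 𝔪) (M := N) inferInstance (f := fun j => (f j).1)
    (fun {a b} h => hf' a b h)
  refine ⟨y, fun n => ?_⟩
  have h1 : y - (f n).1 ∈ S n := hle n (by simpa using neg_mem (SModEq.sub_mem.1 (hy n)))
  have h2 : (f n).1 - x n ∈ S n := sup_le le_rfl (hle n) ((f n).2 n)
  simpa using add_mem h1 h2

end Lim

section Main

variable {k : Type u} [Field k] {H : Type v} [CommRing H] [HopfAlgebra k H]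
variable {A : Type w} [CommRing A] [Algebra k A] [HopfRep.Comod k H A] [GLin.IsCoactAlg k H A]
variable {M : Type w'} [AddCommGroup M] [Module k M] [Module A M] [IsScalarTower k A M]
  [HopfRep.Comod k H M] [TameAct.IsHopfMod k H A M]
variable (r : Integral k H)

lemma cR_hmSMul_left (f : A) (s : M ⊗[k] H) :
    cR r.toFun (TameAct.hmSMul k H A M (f ⊗ₜ[k] (1 : H)) s) = f • cR r.toFun s := by
  induction s using TensorProduct.induction_on with
  | zero => simp
  | tmul x y => rw [TameAct.hmSMul_tmul, one_mul, cR_tmul, cR_tmul, smul_comm]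
  | add x y hx hy => simp only [map_add, smul_add, hx, hy]

lemma cR_hmSMul_right (t : A ⊗[k] H) (x : M) :
    cR r.toFun (TameAct.hmSMul k H A M t (x ⊗ₜ[k] (1 : H))) = cR r.toFun t • x := by
  induction t using TensorProduct.induction_on with
  | zero => simp
  | tmul a y => rw [TameAct.hmSMul_tmul, mul_one, cR_tmul, cR_tmul, smul_assoc]
  | add a b ha hb => simp only [map_add, LinearMap.add_apply, add_smul, ha, hb]

lemma reynolds_smul_fixed {f : A} (hf : f ∈ HopfRep.fixedPts k H A) (x : M) :
    reynolds M r (f • x) = f • reynolds M r x := by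
  rw [reynolds_apply, TameAct.IsHopfMod.coact_smul,
    show HopfRep.Comod.coact (k := k) (A := H) f = f ⊗ₜ[k] (1 : H) from hf, cR_hmSMul_left, reynolds_apply]

lemma reynolds_fixed_smul (a : A) {x : M} (hx : x ∈ HopfRep.fixedPts k H M) :
    reynolds M r (a • x) = reynolds A r a • x := by
  rw [reynolds_apply, TameAct.IsHopfMod.coact_smul,
    show HopfRep.Comod.coact (k := k) (A := H) x = x ⊗ₜ[k] (1 : H) from hx, cR_hmSMul_right, reynolds_apply]

lemma reynolds_mem_ideal {m : Ideal A} (hm : HopfRep.IsSubcomod (k := k) (A := H) (m.restrictScalars k))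
    {a : A} (ha : a ∈ m) : reynolds A r a ∈ m := by
  obtain ⟨t, ht⟩ := hm a ha
  rw [reynolds_apply, ← ht, cR_rTensor]
  exact (cR r.toFun t).2

variable [IsNoetherianRing A] (m : Ideal A) [m.IsMaximal]
  (hm : HopfRep.IsSubcomod (k := k) (A := H) (m.restrictScalars k))
  [IsLocalRing (GLin.invariants k H A)]

include r hm

lemma mem_iff_mem_maximalIdeal (f : GLin.invariants k H A) :
    (f : A) ∈ m ↔ f ∈ IsLocalRing.maximalIdeal (GLin.invariants k H A) := by
  constructor
  · intro hf
    rw [IsLocalRing.mem_maximalIdeal]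
    intro hu
    exact (Ideal.IsMaximal.ne_top ‹m.IsMaximal›) (m.eq_top_of_isUnit_mem hf (hu.map (GLin.invariants k H A).val))
  · intro hf
    by_contra hfm
    obtain ⟨a, i, hi, hai⟩ := Ideal.IsMaximal.exists_inv ‹m.IsMaximal› hfm
    have h := reynolds_mem_ideal r hm hi
    have hmul : ∀ a b : A, HopfRep.Comod.coact (k := k) (A := H) (a * b) =
        HopfRep.Comod.coact (k := k) (A := H) a * HopfRep.Comod.coact (k := k) (A := H) b :=
      GLin.IsCoactAlg.coact_mul
    have h1 : (1 : A) ∈ HopfRep.fixedPts k H A := one_mem (GLin.invariants k H A)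
    rw [show i = 1 - a * f from eq_sub_of_add_eq' hai, map_sub, reynolds_of_mem r h1, mul_comm,
      reynolds_mul r _ _ hmul f.2] at h
    let u : GLin.invariants k H A := ⟨reynolds A r a, reynolds_mem r a⟩
    have hu : IsUnit (1 - f * u) :=
      (IsLocalRing.isUnit_or_isUnit_one_sub_self (f * u)).resolve_left fun hu =>
        (IsLocalRing.mem_maximalIdeal _).1 (Ideal.mul_mem_right u _ hf) hu
    exact (Ideal.IsMaximal.ne_top ‹m.IsMaximal›)
      (m.eq_top_of_isUnit_mem h (hu.map (GLin.invariants k H A).val))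

theorem eq_zero_of_forall_mem [Module.Finite A M] {x : M} (hx : x ∈ HopfRep.fixedPts k H M)
    (h : ∀ n : ℕ, x ∈ (m ^ n • ⊤ : Submodule A M)) : x = 0 := by
  obtain ⟨a, ha⟩ := (Ideal.mem_iInf_smul_pow_eq_bot_iff m x).1 (Submodule.mem_iInf _ |>.2 h)
  have hR := congrArg (reynolds M r) ha
  rw [reynolds_fixed_smul r _ hx, reynolds_of_mem r hx] at hR
  let u : GLin.invariants k H A := ⟨reynolds A r (a : A), reynolds_mem r _⟩
  have hu : u ∈ IsLocalRing.maximalIdeal _ :=
    (mem_iff_mem_maximalIdeal r m hm u).1 (reynolds_mem_ideal r hm a.2)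
  have hu' : IsUnit (1 - u) := (IsLocalRing.isUnit_or_isUnit_one_sub_self u).resolve_left
    ((IsLocalRing.mem_maximalIdeal _).1 hu)
  refine (hu'.map (GLin.invariants k H A).val).smul_eq_zero.1 ?_
  show ((1 : A) - reynolds A r (a : A)) • x = 0
  rw [sub_smul, one_smul, hR, sub_self]

theorem exists_fixed_limit [IsNoetherianRing (GLin.invariants k H A)]
    [IsAdicComplete (IsLocalRing.maximalIdeal (GLin.invariants k H A)) (GLin.invariants k H A)]
    [Module.Finite A M] (x : ℕ → M) (hx : ∀ n, x n ∈ HopfRep.fixedPts k H M)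
    (hc : ∀ n, x (n + 1) - x n ∈ (m ^ n • ⊤ : Submodule A M)) :
    ∃ y ∈ HopfRep.fixedPts k H M, ∀ n, y - x n ∈ (m ^ n • ⊤ : Submodule A M) := by
  classical
  let B := GLin.invariants k H A
  let N : Submodule B M :=
    { carrier := {z | z ∈ HopfRep.fixedPts k H M}
      add_mem' := fun ha hb => (HopfRep.fixedPts k H M).add_mem ha hb
      zero_mem' := (HopfRep.fixedPts k H M).zero_mem
      smul_mem' := fun f z hz => by
        show (f : A) • z ∈ HopfRep.fixedPts k H M
        rw [← reynolds_of_mem r hz, ← reynolds_smul_fixed r f.2]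
        exact reynolds_mem r _ }
  haveI : Module.Finite B N := by
    obtain ⟨t, ht, hspan⟩ := (Submodule.fg_span_iff_fg_span_finset_subset
      (HopfRep.fixedPts k H M : Set M)).mp (IsNoetherian.noetherian (Submodule.span A _))
    refine ⟨⟨t.attach.image fun (z : {x // x ∈ t}) => (⟨(z : M), ht z.2⟩ : N), eq_top_iff.2 fun z _ => ?_⟩⟩
    have hz : (z : M) ∈ Submodule.span A (t : Set M) := hspan ▸ Submodule.subset_span z.2
    obtain ⟨g, -, hg⟩ := Submodule.mem_span_finset.1 hz
    have hg' : ∑ a ∈ t, reynolds A r (g a) • a = (z : M) := by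
      conv_rhs => rw [← reynolds_of_mem r (show (z : M) ∈ HopfRep.fixedPts k H M from z.2), ← hg, map_sum]
      exact Finset.sum_congr rfl fun a ha => (reynolds_fixed_smul r _ (ht ha)).symm
    rw [show z = ∑ a ∈ t.attach, (⟨reynolds A r (g a), reynolds_mem r _⟩ : B) • (⟨(a : M), ht a.2⟩ : N) from
      Subtype.ext (by rw [Submodule.coe_sum, ← hg', ← Finset.sum_attach]; rfl)]
    exact sum_mem fun a ha => Submodule.smul_mem _ _
      (Submodule.subset_span (Finset.mem_coe.2 (Finset.mem_image_of_mem _ ha)))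
  let S : ℕ → Submodule B N := fun n => ((m ^ n • ⊤ : Submodule A M).restrictScalars B).comap N.subtype
  have hS : Antitone S := fun a b h z (hz : (z : M) ∈ (m ^ b • ⊤ : Submodule A M)) =>
    (Submodule.smul_mono_left (Ideal.pow_le_pow_right h) : (m ^ b • ⊤ : Submodule A M) ≤ m ^ a • ⊤) hz
  have hle : ∀ n, (IsLocalRing.maximalIdeal B ^ n • ⊤ : Submodule B N) ≤ S n := fun n => by
    rw [Submodule.smul_le]
    intro f hf z _
    refine Submodule.smul_mem_smul (r := (f : A)) ?_ Submodule.mem_top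
    have h : (IsLocalRing.maximalIdeal B).map B.val ≤ m :=
      Ideal.map_le_iff_le_comap.2 fun f hf => (mem_iff_mem_maximalIdeal r m hm f).2 hf
    exact Ideal.pow_right_mono h n ((Ideal.map_pow (B.val) (IsLocalRing.maximalIdeal B) n).le
      (Ideal.mem_map_of_mem _ hf))
  obtain ⟨y, hy⟩ := exists_limit S hS hle (fun n => (⟨x n, hx n⟩ : N)) hc
  exact ⟨y, y.2, fun n => hy n⟩

end Main

end Groth.Agent.LunaAdic
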